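import Cfsg.Prelude.Def_Balance
import Cfsg.Agent.Coprime.Sylow
import Cfsg.Agent.Coprime.Action
import Cfsg.Agent.S1324

/-!
Elementary properties of solvable signalizer functors and the transitivity theorem.
-/

set_option linter.style.haveILetI false
set_option linter.unusedSectionVars false

namespace Cfsg.Lib.Signalizer

open Subgroup Cfsg.Lib.Coprime
open scoped Pointwise

universe u

variable {G : Type u} [Group G] [Finite G] {p : ℕ} [hp : Fact p.Prime] {A : Subgroup G}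
  {θ : G → Subgroup G}

local notation "𝓕" => Cfsg.signalizerFamily p A θ

theorem zpowers_card_coprime {a : G} (hA : Cfsg.IsElementaryAbelian p A) (ha : a ∈ A) {K : Subgroup G}
    (hK : ¬ p ∣ Nat.card K) : (Nat.card (zpowers a)).Coprime (Nat.card K) := by
  rw [Nat.card_zpowers]
  exact ((hp.out.coprime_iff_not_dvd.mpr hK)).coprime_dvd_left (orderOf_dvd_of_pow_eq_one (hA.2 a ha))

theorem coprime_card (hA : Cfsg.IsElementaryAbelian p A) {K : Subgroup G} (hK : ¬ p ∣ Nat.card K) :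
    (Nat.card A).Coprime (Nat.card K) := by
  have hAp : IsPGroup p A := fun a => ⟨1, Subtype.ext (by rw [pow_one]; exact hA.2 a a.2)⟩
  obtain ⟨n, hn⟩ := IsPGroup.iff_card.mp hAp
  rw [hn]
  exact (hp.out.coprime_iff_not_dvd.mpr hK).pow_left n

theorem isSolvable_A (hA : Cfsg.IsElementaryAbelian p A) : Group.IsSolvable A :=
  Group.isSolvable_of_comm fun a b => hA.1.is_comm.comm a b

theorem comm (hA : Cfsg.IsElementaryAbelian p A) {a b : G} (ha : a ∈ A) (hb : b ∈ A) : a * b = b * a :=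
  congrArg Subtype.val (hA.1.is_comm.comm ⟨a, ha⟩ ⟨b, hb⟩)

theorem mem_normalizer_of_conj {N : Subgroup G} {g : G} (h : ∀ x ∈ N, g * x * g⁻¹ ∈ N) :
    g ∈ normalizer (N : Set G) := by
  have hle : conjMap g N ≤ N := fun y hy => by
    rw [mem_conjMap] at hy
    have := h _ hy
    rwa [show g * (g⁻¹ * y * g) * g⁻¹ = y by group] at this
  exact conjMap_eq_self_iff.mp (eq_of_le_of_card_ge hle (card_conjMap g N).ge)

theorem le_normalizer_of_mem_family {X : Subgroup G} (hX : X ∈ 𝓕) : A ≤ normalizer (X : Set G) :=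
  fun a ha => mem_normalizer_of_conj fun x hx => hX.2.2.1 a ha x hx

theorem theta_mem_family (hθ : Cfsg.IsSolvableSignalizerFunctor p A θ) {a : G} (ha : a ∈ A) (ha1 : a ≠ 1) :
    θ a ∈ 𝓕 :=
  ⟨hθ.2 a ha ha1, hθ.1.2.1 a ha ha1, fun b hb x hx => hθ.1.2.2.1 a ha ha1 b hb x hx,
    fun b hb hb1 => hθ.1.2.2.2 a ha ha1 b hb hb1⟩

theorem mem_family_of_le {X Y : Subgroup G} (hY : Y ∈ 𝓕) (hXY : X ≤ Y)
    (hAX : A ≤ normalizer (X : Set G)) : X ∈ 𝓕 :=
  ⟨isSolvable_of_le hXY hY.1, fun h => hY.2.1 (h.trans (card_dvd_of_le hXY)),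
    fun b hb x hx => (mem_normalizer_iff.mp (hAX hb) x).mp hx,
    fun a ha ha1 => (inf_le_inf_right _ hXY).trans (hY.2.2.2 a ha ha1)⟩

theorem isSolvable_sup {X Y : Subgroup G} (h : Y ≤ normalizer (X : Set G)) (hX : Group.IsSolvable X)
    (hY : Group.IsSolvable Y) : Group.IsSolvable ↥(X ⊔ Y) := by
  haveI := hX
  haveI := hY
  haveI hn : (X.subgroupOf (X ⊔ Y)).Normal := (normal_subgroupOf_iff_le_normalizer le_sup_left).mpr
    (sup_le le_normalizer h)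
  have hs : Function.Surjective ((QuotientGroup.mk' (X.subgroupOf (X ⊔ Y))).comp
      (inclusion (le_sup_right : Y ≤ X ⊔ Y))) := by
    intro q
    obtain ⟨⟨z, hz⟩, rfl⟩ := QuotientGroup.mk'_surjective _ q
    obtain ⟨x, hx, y, hy, rfl⟩ := (mem_sup_of_le_normalizer h).mp hz
    refine ⟨⟨y, hy⟩, ?_⟩
    show QuotientGroup.mk' _ _ = QuotientGroup.mk' _ _
    rw [QuotientGroup.mk'_apply, QuotientGroup.mk'_apply, QuotientGroup.eq]
    show y⁻¹ * (x * y) ∈ X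
    rw [← mul_assoc]
    exact (mem_normalizer_iff''.mp (h hy) x).mp hx
  haveI : Group.IsSolvable (↥(X ⊔ Y) ⧸ X.subgroupOf (X ⊔ Y)) :=
    Group.isSolvable_of_surjective hs
  exact Group.isSolvable_of_ker_le_range (inclusion (le_sup_left : X ≤ X ⊔ Y))
    (QuotientGroup.mk' (X.subgroupOf (X ⊔ Y))) (by
      rw [QuotientGroup.ker_mk']
      exact fun z hz => ⟨⟨z, hz⟩, rfl⟩)

/-- the product of two members, one normalizing the other, is a member -/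
theorem sup_mem_family (hA : Cfsg.IsElementaryAbelian p A) {X Y : Subgroup G} (hX : X ∈ 𝓕) (hY : Y ∈ 𝓕)
    (hn : Y ≤ normalizer (X : Set G)) : X ⊔ Y ∈ 𝓕 := by
  have hcard : ¬ p ∣ Nat.card ↥(X ⊔ Y) := by
    intro h
    have h2 : p ∣ Nat.card ↥(X ⊔ Y) * Nat.card ↥(X ⊓ Y) := h.mul_right _
    rw [card_sup_mul_card_inf hn] at h2
    rcases hp.out.dvd_mul.mp h2 with h3 | h3
    · exact hX.2.1 h3
    · exact hY.2.1 h3
  refine ⟨isSolvable_sup hn hX.1 hY.1, hcard, ?_, ?_⟩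
  · intro b hb z hz
    obtain ⟨x, hx, y, hy, rfl⟩ := (mem_sup_of_le_normalizer hn).mp hz
    rw [show b * (x * y) * b⁻¹ = (b * x * b⁻¹) * (b * y * b⁻¹) by group]
    exact mul_mem_sup (hX.2.2.1 b hb x hx) (hY.2.2.1 b hb y hy)
  · intro a ha ha1 z hz
    obtain ⟨x, hx, y, hy, rfl⟩ := (mem_sup_of_le_normalizer hn).mp hz.1
    have hzc : x * y ∈ centralizer (zpowers a : Set G) := by
      rw [centralizer_zpowers]; exact hz.2
    obtain ⟨x', hx', y', hy', e⟩ := fixed_factorisation (A := zpowers a) (K := X ⊔ Y)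
      (zpowers_card_coprime hA ha hcard) (Or.inr (isSolvable_sup hn hX.1 hY.1)) le_sup_left
      (zpowers_le.mpr (le_normalizer_of_mem_family hX ha))
      (zpowers_le.mpr (le_normalizer_of_mem_family hY ha)) hx hy hzc
    rw [e]
    exact mul_mem (hX.2.2.2 a ha ha1 ⟨hx'.1, centralizer_zpowers a ▸ hx'.2⟩)
      (hY.2.2.2 a ha ha1 ⟨hy'.1, centralizer_zpowers a ▸ hy'.2⟩)

theorem mem_inf_iff {A : Subgroup G} {θ : G → Subgroup G} {x : G} :
    x ∈ Cfsg.signalizerInf A θ ↔ ∀ a ∈ A, a ≠ 1 → x ∈ θ a := by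
  simp only [Cfsg.signalizerInf, mem_iInf, Subtype.forall, and_imp]

theorem inf_le_centralizer (hθ : Cfsg.IsSolvableSignalizerFunctor p A θ) {B : Subgroup G} (hB : B ≤ A) :
    Cfsg.signalizerInf B θ ≤ centralizer (B : Set G) := by
  intro x hx
  refine mem_centralizer_iff.mpr fun a ha => ?_
  by_cases ha1 : a = 1
  · simp [ha1]
  exact (mem_centralizer_singleton_iff.mp
    (hθ.1.1 a (hB ha) ha1 (mem_inf_iff.mp hx a ha ha1))).symm

theorem mem_inf_of_centralizes (hθ : Cfsg.IsSolvableSignalizerFunctor p A θ) {B : Subgroup G} (hB : B ≤ A)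
    {a : G} (ha : a ∈ A) (ha1 : a ≠ 1) {x : G} (hx : x ∈ θ a) (hxB : x ∈ centralizer (B : Set G)) :
    x ∈ Cfsg.signalizerInf B θ :=
  mem_inf_iff.mpr fun b hb hb1 => hθ.1.2.2.2 a ha ha1 b (hB hb) hb1
    ⟨hx, mem_centralizer_singleton_iff.mpr (mem_centralizer_iff.mp hxB b hb).symm⟩

theorem exists_ne_one {B : Subgroup G} (hB : B ≠ ⊥) : ∃ b ∈ B, b ≠ 1 := by
  by_contra h
  push Not at h
  exact hB ((Subgroup.eq_bot_iff_forall _).mpr h)

theorem inf_mem_family (hθ : Cfsg.IsSolvableSignalizerFunctor p A θ) {B : Subgroup G} (hB : B ≤ A)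
    (hB1 : B ≠ ⊥) : Cfsg.signalizerInf B θ ∈ 𝓕 := by
  obtain ⟨b, hb, hb1⟩ := exists_ne_one hB1
  refine mem_family_of_le (theta_mem_family hθ (hB hb) hb1) (fun x hx => mem_inf_iff.mp hx b hb hb1) ?_
  intro c hc
  refine mem_normalizer_of_conj fun x hx => mem_inf_iff.mpr fun a ha ha1 => ?_
  exact hθ.1.2.2.1 a (hB ha) ha1 c hc x (mem_inf_iff.mp hx a ha ha1)

/-- conjugating by `θ(C(A))` preserves the family -/
theorem conj_mem_family (hθ : Cfsg.IsSolvableSignalizerFunctor p A θ) {X : Subgroup G} (hX : X ∈ 𝓕) {c : G}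
    (hc : c ∈ Cfsg.signalizerInf A θ) : conjMap c X ∈ 𝓕 := by
  have hcA := inf_le_centralizer hθ le_rfl hc
  refine ⟨isSolvable_conjMap hX.1 c, by rw [card_conjMap]; exact hX.2.1, ?_, ?_⟩
  · intro b hb x hx
    rw [mem_conjMap] at hx ⊢
    have e : b * c = c * b := mem_centralizer_iff.mp hcA b hb
    have e' : c⁻¹ * b = b * c⁻¹ := by
      rw [inv_mul_eq_iff_eq_mul, ← mul_assoc, ← e, mul_inv_cancel_right]
    rw [show c⁻¹ * (b * x * b⁻¹) * c = (c⁻¹ * b) * x * (c⁻¹ * b)⁻¹ by group, e',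
      show b * c⁻¹ * x * (b * c⁻¹)⁻¹ = b * (c⁻¹ * x * c) * b⁻¹ by group]
    exact hX.2.2.1 b hb _ hx
  · rintro a ha ha1 x ⟨hx, hxa⟩
    have hx' : c⁻¹ * x * c ∈ X := mem_conjMap.mp hx
    have e1 : Commute a c := mem_centralizer_iff.mp hcA a ha
    have e2 : Commute a x := (mem_centralizer_singleton_iff.mp hxa).symm
    have h := hX.2.2.2 a ha ha1 ⟨hx', mem_centralizer_singleton_iff.mpr
      ((e1.inv_right.mul_right e2).mul_right e1).symm.eq⟩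
    have hcθ := mem_inf_iff.mp hc a ha ha1
    have := mul_mem (mul_mem hcθ h) (inv_mem hcθ)
    rwa [show c * (c⁻¹ * x * c) * c⁻¹ = x by group] at this

/-- a coset fixed by `b` in the image of `θ(a)` -/
theorem map_inf_centralizer_le (hA : Cfsg.IsElementaryAbelian p A)
    (hθ : Cfsg.IsSolvableSignalizerFunctor p A θ) (N : Subgroup G) [N.Normal] {a b : G}
    (ha : a ∈ A) (ha1 : a ≠ 1) (hb : b ∈ A) (hb1 : b ≠ 1) :
    (θ a).map (QuotientGroup.mk' N) ⊓ centralizer {QuotientGroup.mk' N b} ≤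
      (θ b).map (QuotientGroup.mk' N) := by
  rintro _ ⟨⟨x, hx, rfl⟩, hc⟩
  have hfam := theta_mem_family hθ ha ha1
  set π := QuotientGroup.mk' N
  set D := θ a ⊓ N with hD
  have hcop : (Nat.card (zpowers b)).Coprime (Nat.card D) :=
    zpowers_card_coprime hA hb fun h => hfam.2.1 (h.trans (card_dvd_of_le inf_le_left))
  have hnorm : zpowers b ≤ normalizer (D : Set G) :=
    le_normalizer_inf (zpowers_le.mpr (le_normalizer_of_mem_family hfam hb)) le_normalizer_of_normal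
  obtain ⟨d, hd, hxd⟩ := exists_fixed_of_commutator_mem (k := x) hnorm hcop
    (Or.inl (isSolvable_of_le (zpowers_le.mpr hb) (isSolvable_A hA)))
    (mem_normalizer_of_conj fun y hy =>
      mem_inf.mpr ⟨(θ a).mul_mem ((θ a).mul_mem hx (mem_inf.mp hy).1) ((θ a).inv_mem hx),
        Normal.conj_mem inferInstance y (mem_inf.mp hy).2 x⟩)
    (fun y hy => by
      obtain ⟨k, rfl⟩ := mem_zpowers_iff.mp hy
      refine mem_inf.mpr ⟨(θ a).mul_mem (hfam.2.2.1 _ (A.zpow_mem hb k) x hx) ((θ a).inv_mem hx), ?_⟩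
      refine (QuotientGroup.eq_one_iff _).mp ?_
      show π (b ^ k * x * (b ^ k)⁻¹ * x⁻¹) = 1
      have e : Commute (π x) (π b) := mem_centralizer_singleton_iff.mp hc
      simp only [map_mul, map_inv, map_zpow]
      rw [← (e.zpow_right k).eq]
      group)
  rw [centralizer_zpowers] at hxd
  refine ⟨x * d, hθ.1.2.2.2 a ha ha1 b hb hb1 ⟨mul_mem hx hd.1, hxd⟩, ?_⟩
  rw [map_mul, (show π d = 1 from (QuotientGroup.eq_one_iff _).mpr hd.2), mul_one]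

theorem exists_index_p {B : Subgroup G} (hB : IsPGroup p B) (hB1 : B ≠ ⊥) :
    ∃ D : Subgroup G, D ≤ B ∧ D.relIndex B = p := by
  haveI : Nontrivial B := (nontrivial_iff_ne_bot _).mpr hB1
  obtain ⟨n, hn0, hn⟩ := hB.nontrivial_iff_card.mp inferInstance
  obtain ⟨D, hD⟩ := Sylow.exists_subgroup_card_pow_prime p (G := B) (n := n - 1)
    (hn ▸ pow_dvd_pow p (Nat.sub_le _ _))
  refine ⟨D.map B.subtype, map_subtype_le _, ?_⟩
  have h := relIndex_mul_relIndex ⊥ (D.map B.subtype) B bot_le (map_subtype_le _)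
  rw [relIndex_bot_left, relIndex_bot_left, card_map_of_injective B.subtype_injective, hD, hn] at h
  obtain ⟨m, rfl⟩ := Nat.exists_eq_succ_of_ne_zero hn0.ne'
  rw [Nat.succ_sub_one, pow_succ] at h
  exact Nat.eq_of_mul_eq_mul_left (pow_pos hp.out.pos m) h

/-- members are generated by their intersections with `θ` of the maximal subgroups of `B` -/
theorem eq_iSup_inf (hA : Cfsg.IsElementaryAbelian p A) (hθ : Cfsg.IsSolvableSignalizerFunctor p A θ)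
    {X : Subgroup G} (hX : X ∈ 𝓕) {B : Subgroup G} (hB : B ≤ A) (hB2 : p ^ 2 ≤ Nat.card B) :
    X = ⨆ D : {D : Subgroup G // D ≤ B ∧ D.relIndex B = p},
      X ⊓ Cfsg.signalizerInf (D : Subgroup G) θ := by
  refine le_antisymm ?_ (iSup_le fun _ => inf_le_left)
  have hBe : Cfsg.IsElementaryAbelian p B :=
    ⟨⟨⟨fun x y => Subtype.ext (comm hA (hB x.2) (hB y.2))⟩⟩, fun b hb => hA.2 b (hB hb)⟩
  have hBp : IsPGroup p B := fun b => ⟨1, Subtype.ext (by rw [pow_one]; exact hBe.2 b b.2)⟩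
  have hlt : p < Nat.card B := lt_of_lt_of_le
    (by rw [pow_two]; exact lt_mul_of_one_lt_left hp.out.pos hp.out.one_lt) hB2
  have hgen := Cfsg.Agent.S1324.result p B X hBe hB2 hX.2.1 (hB.trans (le_normalizer_of_mem_family hX))
  have key : ∀ D : Subgroup G, D ≤ B → D.relIndex B = p →
      X ⊓ centralizer (D : Set G) ≤ X ⊓ Cfsg.signalizerInf D θ := by
    rintro D hDB _ x ⟨hx, hxD⟩
    exact ⟨hx, mem_inf_iff.mpr fun a ha ha1 => hX.2.2.2 a (hB (hDB ha)) ha1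
      ⟨hx, mem_centralizer_singleton_iff.mpr (mem_centralizer_iff.mp hxD a ha).symm⟩⟩
  refine hgen.le.trans (iSup_le fun D => ?_)
  obtain ⟨D, hDB, hDi⟩ := D
  rcases hDi.lt_or_eq with h | h
  · obtain ⟨E, hEB, hE⟩ := exists_index_p hBp (fun h1 => by
      rw [h1, card_bot] at hlt; have := hp.out.one_lt; omega)
    have hBD : B ≤ D := by
      rw [← relIndex_eq_one]
      have h2 : D.relIndex B ∣ Nat.card B := by
        have := relIndex_mul_relIndex ⊥ D B bot_le hDB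
        rw [relIndex_bot_left, relIndex_bot_left] at this
        exact ⟨_, this.symm.trans (mul_comm _ _)⟩
      obtain ⟨n, hn⟩ := IsPGroup.iff_card.mp hBp
      rw [hn] at h2
      obtain ⟨i, _, hi⟩ := (Nat.dvd_prime_pow hp.out).mp h2
      rw [hi] at h ⊢
      rcases Nat.eq_zero_or_pos i with h3 | h3
      · rw [h3, pow_zero]
      · exact absurd (Nat.le_self_pow h3.ne' p) (not_le.mpr h)
    exact le_trans (le_trans (inf_le_inf_left _
      (centralizer_le (SetLike.coe_subset_coe.mpr (hEB.trans hBD)))) (key E hEB hE))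
      (le_iSup (fun D : {D : Subgroup G // D ≤ B ∧ D.relIndex B = p} =>
        X ⊓ Cfsg.signalizerInf (D : Subgroup G) θ) ⟨E, hEB, hE⟩)
  · exact le_trans (key D hDB h) (le_iSup (fun D : {D : Subgroup G // D ≤ B ∧ D.relIndex B = p} =>
      X ⊓ Cfsg.signalizerInf (D : Subgroup G) θ) ⟨D, hDB, h⟩)

/-- the key lemma for the transitivity theorem -/
theorem exists_common (hA : Cfsg.IsElementaryAbelian p A) (hA3 : p ^ 3 ≤ Nat.card A) {q : ℕ}
    [hq : Fact q.Prime] (hqp : q ≠ p) {Q₁ Q₂ : Subgroup G} (h₁ : IsPGroup q Q₁) (h₂ : IsPGroup q Q₂)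
    (hA₁ : A ≤ normalizer (Q₁ : Set G)) (hA₂ : A ≤ normalizer (Q₂ : Set G))
    (hD₁ : Q₁ ⊓ Q₂ ≠ Q₁) (hD₂ : Q₁ ⊓ Q₂ ≠ Q₂) :
    ∃ a ∈ A, a ≠ 1 ∧
      ¬ (normalizer ((Q₁ ⊓ Q₂ : Subgroup G) : Set G) ⊓ Q₁ ⊓ centralizer {a} ≤ Q₁ ⊓ Q₂) ∧
      ¬ (normalizer ((Q₁ ⊓ Q₂ : Subgroup G) : Set G) ⊓ Q₂ ⊓ centralizer {a} ≤ Q₁ ⊓ Q₂) := by
  set D := Q₁ ⊓ Q₂ with hD
  have hAD : A ≤ normalizer (D : Set G) := le_normalizer_inf hA₁ hA₂
  have main : ∀ Q : Subgroup G, IsPGroup q Q → A ≤ normalizer (Q : Set G) → D ≤ Q → D ≠ Q →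
      ∃ B : Subgroup G, B ≤ A ∧ B.relIndex A ≤ p ∧
        ¬ (normalizer (D : Set G) ⊓ Q ⊓ centralizer (B : Set G) ≤ D) := by
    intro Q hQ hAQ hDQ hne
    set X := normalizer (D : Set G) ⊓ Q with hX
    have hXD : ¬ X ≤ D := by
      intro hle
      haveI := hQ.isNilpotent
      have hlt : D.subgroupOf Q < ⊤ := lt_top_iff_ne_top.mpr fun h =>
        hne (le_antisymm hDQ (subgroupOf_eq_top.mp h))
      obtain ⟨x, hxn, hxD⟩ := SetLike.exists_of_lt (Group.normalizerCondition_of_isNilpotent (G := Q) _ hlt)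
      rw [← subgroupOf_normalizer_eq hDQ] at hxn
      exact hxD (hle ⟨hxn, x.2⟩)
    have hXp : ¬ p ∣ Nat.card X := by
      obtain ⟨n, hn⟩ := IsPGroup.iff_card.mp (hQ.to_le (inf_le_right : X ≤ Q))
      rw [hn]
      intro h
      exact hqp ((Nat.prime_dvd_prime_iff_eq hp.out hq.out).mp (hp.out.dvd_of_dvd_pow h)).symm
    have hgen := Cfsg.Agent.S1324.result p A X hA (le_trans (Nat.pow_le_pow_right hp.out.pos (by norm_num)) hA3)
      hXp (le_normalizer_inf (hAD.trans le_normalizer) hAQ)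
    by_contra hno
    push Not at hno
    exact hXD (hgen.le.trans (iSup_le fun B => hno B.1 B.2.1 B.2.2))
  obtain ⟨B₁, hB₁, hi₁, hn₁⟩ := main Q₁ h₁ hA₁ inf_le_left hD₁
  obtain ⟨B₂, hB₂, hi₂, hn₂⟩ := main Q₂ h₂ hA₂ inf_le_right hD₂
  obtain ⟨a, ha, ha1⟩ : ∃ a ∈ B₁ ⊓ B₂, a ≠ 1 := exists_ne_one fun h => by
    have h2 := relIndex_inf_le (H := B₁) (K := B₂) (L := A)
    rw [h, relIndex_bot_left] at h2
    have h3 : p ^ 3 ≤ p * p := hA3.trans (h2.trans (Nat.mul_le_mul hi₁ hi₂))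
    rw [← pow_two] at h3
    exact absurd h3 (not_le.mpr (Nat.pow_lt_pow_right hp.out.one_lt (by norm_num)))
  refine ⟨a, hB₁ ha.1, ha1, fun h => hn₁ ?_, fun h => hn₂ ?_⟩
  · exact (inf_le_inf_left _ (centralizer_le (Set.singleton_subset_iff.mpr ha.1))).trans h
  · exact (inf_le_inf_left _ (centralizer_le (Set.singleton_subset_iff.mpr ha.2))).trans h

theorem exists_max {q : ℕ} {R : Subgroup G} (hR : R ∈ 𝓕) (hRq : IsPGroup q R) :
    ∃ M ∈ 𝓕, IsPGroup q M ∧ R ≤ M ∧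
      ∀ R' ∈ 𝓕, IsPGroup q R' → M ≤ R' → R' = M := by
  obtain ⟨M, ⟨hM1, hM2, hM3⟩, hmax⟩ := (Set.toFinite
    {M : Subgroup G | M ∈ 𝓕 ∧ IsPGroup q M ∧ R ≤ M}).exists_maximal ⟨R, hR, hRq, le_rfl⟩
  exact ⟨M, hM1, hM2, hM3, fun R' h1 h2 h3 => le_antisymm (hmax ⟨h1, h2, hM3.trans h3⟩ h3) h3⟩

/-- **the transitivity theorem** -/
theorem transitivity (hA : Cfsg.IsElementaryAbelian p A) (hA3 : p ^ 3 ≤ Nat.card A)
    (hθ : Cfsg.IsSolvableSignalizerFunctor p A θ) {q : ℕ} [hq : Fact q.Prime]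
    (hqe : ∃ a ∈ A, a ≠ 1 ∧ q ∣ Nat.card (θ a)) :
    ∀ Q₁ ∈ 𝓕, IsPGroup q Q₁ → (∀ R ∈ 𝓕, IsPGroup q R → Q₁ ≤ R → R = Q₁) →
    ∀ Q₂ ∈ 𝓕, IsPGroup q Q₂ → (∀ R ∈ 𝓕, IsPGroup q R → Q₂ ≤ R → R = Q₂) →
      ∃ c ∈ Cfsg.signalizerInf A θ, conjMap c Q₁ = Q₂ := by
  have hqp : q ≠ p := by
    obtain ⟨a, ha, ha1, hd⟩ := hqe
    intro h
    exact hθ.1.2.1 a ha ha1 (h ▸ hd)
  suffices H : ∀ n : ℕ, ∀ Q₁ Q₂ : Subgroup G, Nat.card G - Nat.card ↥(Q₁ ⊓ Q₂) = n → Q₁ ∈ 𝓕 → IsPGroup q Q₁ →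
      (∀ R ∈ 𝓕, IsPGroup q R → Q₁ ≤ R → R = Q₁) → Q₂ ∈ 𝓕 → IsPGroup q Q₂ →
      (∀ R ∈ 𝓕, IsPGroup q R → Q₂ ≤ R → R = Q₂) →
      ∃ c ∈ Cfsg.signalizerInf A θ, conjMap c Q₁ = Q₂ from
    fun Q₁ a b c Q₂ d e f => H _ Q₁ Q₂ rfl a b c d e f
  intro n
  induction n using Nat.strong_induction_on with
  | _ n ih =>
  intro Q₁ Q₂ hn h1 h1q h1m h2 h2q h2m
  set D := Q₁ ⊓ Q₂ with hD
  by_cases hD1 : D = Q₁
  · exact ⟨1, one_mem _, by rw [conjMap_one]; exact (h1m Q₂ h2 h2q (hD1 ▸ inf_le_right)).symm⟩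
  by_cases hD2 : D = Q₂
  · exact ⟨1, one_mem _, by rw [conjMap_one]; exact h2m Q₁ h1 h1q (hD2 ▸ inf_le_left)⟩
  have hAD : A ≤ normalizer (D : Set G) :=
    le_normalizer_inf (le_normalizer_of_mem_family h1) (le_normalizer_of_mem_family h2)
  have hDfam : D ∈ 𝓕 := mem_family_of_le h1 inf_le_left hAD
  obtain ⟨a, ha, ha1, hn1, hn2⟩ := exists_common hA hA3 hqp h1q h2q (le_normalizer_of_mem_family h1)
    (le_normalizer_of_mem_family h2) hD1 hD2
  set K := θ a ⊓ normalizer (D : Set G) with hK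
  have hAa : A ≤ normalizer (θ a : Set G) := le_normalizer_of_mem_family (theta_mem_family hθ ha ha1)
  have hAK : A ≤ normalizer (K : Set G) := le_normalizer_inf hAa (hAD.trans le_normalizer)
  have hKfam : K ∈ 𝓕 := mem_family_of_le (theta_mem_family hθ ha ha1) inf_le_left hAK
  have hcopK : (Nat.card A).Coprime (Nat.card K) := coprime_card hA hKfam.2.1
  have hAN : A ≤ normalizer (centralizer ({a} : Set G) : Set G) := fun b hb =>
    le_normalizer (mem_centralizer_singleton_iff.mpr (comm hA hb ha))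
  have hsyl : ∀ Q : Subgroup G, Q ∈ 𝓕 → IsPGroup q Q → ∃ P : Sylow q K,
      normalizer (D : Set G) ⊓ Q ⊓ centralizer {a} ≤ (P : Subgroup K).map K.subtype ∧
      A ≤ normalizer (((P : Subgroup K).map K.subtype : Subgroup G) : Set G) := by
    intro Q hQ hQq
    refine exists_invariant_sylow_ge hAK hcopK (Or.inr hKfam.1) q ?_
      (hQq.to_le (inf_le_left.trans inf_le_right))
      (le_normalizer_inf (le_normalizer_inf (hAD.trans le_normalizer) (le_normalizer_of_mem_family hQ)) hAN)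
    rintro x ⟨⟨hxN, hxQ⟩, hxa⟩
    exact ⟨hQ.2.2.2 a ha ha1 ⟨hxQ, hxa⟩, hxN⟩
  obtain ⟨P1, hP1, hP1A⟩ := hsyl Q₁ h1 h1q
  obtain ⟨P2, hP2, hP2A⟩ := hsyl Q₂ h2 h2q
  obtain ⟨c, hcA, hc⟩ := invariant_sylow_conj hAK hcopK (Or.inr hKfam.1) q P1 P2 hP1A hP2A
  have hcθ : (c : G) ∈ Cfsg.signalizerInf A θ := mem_inf_of_centralizes hθ le_rfl ha ha1 c.2.1 hcA
  set S1 := (P1 : Subgroup K).map K.subtype with hS1
  have hS1n : S1 ≤ normalizer (D : Set G) := (map_subtype_le _).trans inf_le_right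
  have hS1fam : S1 ∈ 𝓕 := mem_family_of_le hKfam (map_subtype_le _) hP1A
  have hDS : IsPGroup q ↥(D ⊔ S1) :=
    (h1q.to_le inf_le_left).to_sup_of_normal_left' (P1.2.map _) hS1n
  obtain ⟨R1, hR1, hR1q, hR1le, hR1m⟩ := exists_max (sup_mem_family hA hDfam hS1fam hS1n) hDS
  set R2 := conjMap (c : G) R1 with hR2
  have hR2fam : R2 ∈ 𝓕 := conj_mem_family hθ hR1 hcθ
  have hR2q : IsPGroup q R2 := hR1q.map _
  have hR2m : ∀ R ∈ 𝓕, IsPGroup q R → R2 ≤ R → R = R2 := by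
    intro R hR hRq hle
    have h := hR1m _ (conj_mem_family hθ hR (inv_mem hcθ)) (hRq.map _)
      (by rw [← conjMap_inv_conjMap (c : G) R1]; exact conjMap_mono hle)
    rw [hR2, ← h, conjMap_conjMap_inv]
  have hDR2 : D ≤ R2 := by
    rw [hR2, ← conjMap_eq_self (c.2.2)]
    exact conjMap_mono (le_sup_left.trans hR1le)
  have hS2 : (P2 : Subgroup K).map K.subtype ≤ R2 := by
    rw [← hc, map_subtype_smul, hR2]
    exact conjMap_mono (le_sup_right.trans hR1le)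
  have hbig : ∀ Q R : Subgroup G, D ≤ Q → D ≤ R →
      (∃ x, x ∈ Q ∧ x ∈ R ∧ x ∉ D) → Nat.card G - Nat.card ↥(Q ⊓ R) < n := by
    rintro Q R hQ hR ⟨x, hxQ, hxR, hxD⟩
    have hlt : Nat.card D < Nat.card ↥(Q ⊓ R) := by
      by_contra hle
      push Not at hle
      exact hxD ((eq_of_le_of_card_ge (le_inf hQ hR) hle).symm ▸ (⟨hxQ, hxR⟩ : x ∈ Q ⊓ R))
    have h3 : Nat.card ↥(Q ⊓ R) ≤ Nat.card G := card_le_card_group _
    omega
  obtain ⟨x, hx, hxD⟩ := SetLike.not_le_iff_exists.mp hn1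
  obtain ⟨c₁, hc₁, e₁⟩ := ih _ (hbig Q₁ R1 inf_le_left (le_sup_left.trans hR1le)
    ⟨x, hx.1.2, hR1le (mem_sup_right (hP1 hx)), hxD⟩) Q₁ R1 rfl h1 h1q h1m hR1 hR1q hR1m
  obtain ⟨y, hy, hyD⟩ := SetLike.not_le_iff_exists.mp hn2
  obtain ⟨c₂, hc₂, e₂⟩ := ih _ (hbig R2 Q₂ hDR2 inf_le_right ⟨y, hS2 (hP2 hy), hy.1.2, hyD⟩)
    R2 Q₂ rfl hR2fam hR2q hR2m h2 h2q h2m
  exact ⟨c₂ * c * c₁, mul_mem (mul_mem hc₂ hcθ) hc₁, by
    rw [← conjMap_mul, e₁, ← conjMap_mul, ← hR2, e₂]⟩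

theorem sylow_of_max (hA : Cfsg.IsElementaryAbelian p A) (hA3 : p ^ 3 ≤ Nat.card A)
    (hθ : Cfsg.IsSolvableSignalizerFunctor p A θ) {q : ℕ} [hq : Fact q.Prime]
    (hqe : ∃ a ∈ A, a ≠ 1 ∧ q ∣ Nat.card (θ a)) {Q : Subgroup G} (hQ : Q ∈ 𝓕) (hQq : IsPGroup q Q)
    (hQm : ∀ R ∈ 𝓕, IsPGroup q R → Q ≤ R → R = Q) :
    (∀ H : Subgroup G, H ∈ 𝓕 → ∃ c ∈ Cfsg.signalizerInf A θ, ∃ S : Sylow q H,
        (S : Subgroup H).map H.subtype = conjMap c Q ⊓ H) ∧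
    (∀ B : Subgroup G, B ≤ A → B ≠ ⊥ → ∃ S : Sylow q (Cfsg.signalizerInf B θ),
        (S : Subgroup (Cfsg.signalizerInf B θ)).map (Cfsg.signalizerInf B θ).subtype =
          Q ⊓ centralizer (B : Set G)) := by
  have first : ∀ H : Subgroup G, H ∈ 𝓕 → ∃ c ∈ Cfsg.signalizerInf A θ, ∃ S : Sylow q H,
      (S : Subgroup H).map H.subtype = conjMap c Q ⊓ H := by
    intro H hH
    obtain ⟨S, hS⟩ := exists_invariant_sylow (le_normalizer_of_mem_family hH) (coprime_card hA hH.2.1)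
      (Or.inr hH.1) q
    obtain ⟨R, hR, hRq, hle, hRm⟩ := exists_max (mem_family_of_le hH (map_subtype_le _) hS) (S.2.map _)
    obtain ⟨c, hc, e⟩ := transitivity hA hA3 hθ hqe Q hQ hQq hQm R hR hRq hRm
    refine ⟨c, hc, S, ?_⟩
    rw [e]
    refine le_antisymm (le_inf hle (map_subtype_le _)) fun x hx => ?_
    have h1 : IsPGroup q ↥((R ⊓ H).subgroupOf H) :=
      (hRq.to_le inf_le_left).of_equiv (subgroupOfEquivOfLe inf_le_right).symm
    have h2 : (S : Subgroup H) ≤ (R ⊓ H).subgroupOf H := fun y hy =>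
      ⟨hle (mem_map_of_mem _ hy), y.2⟩
    exact ⟨⟨x, hx.2⟩, (S.3 h1 h2).le (show (⟨x, hx.2⟩ : H) ∈ (R ⊓ H).subgroupOf H from hx), rfl⟩
  refine ⟨first, fun B hB hB1 => ?_⟩
  set H := Cfsg.signalizerInf B θ with hH
  obtain ⟨c, hc, S, hS⟩ := first H (inf_mem_family hθ hB hB1)
  have hcH : c ∈ H := mem_inf_iff.mpr fun b hb hb1 => mem_inf_iff.mp hc b (hB hb) hb1
  have he : Q ⊓ centralizer (B : Set G) = Q ⊓ H := by
    refine le_antisymm (fun x hx => ⟨hx.1, mem_inf_iff.mpr fun b hb hb1 => hQ.2.2.2 b (hB hb) hb1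
      ⟨hx.1, mem_centralizer_singleton_iff.mpr (mem_centralizer_iff.mp hx.2 b hb).symm⟩⟩)
      (inf_le_inf_left _ (inf_le_centralizer hθ hB))
  refine ⟨(⟨c, hcH⟩ : H)⁻¹ • S, ?_⟩
  rw [map_subtype_smul, hS, he, Subgroup.coe_inv, conjMap_inf, conjMap_inv_conjMap,
    conjMap_eq_self (le_normalizer (inv_mem hcH))]

/-- the case of a single prime -/
theorem complete_of_prime_power (hA : Cfsg.IsElementaryAbelian p A) (hA3 : p ^ 3 ≤ Nat.card A)
    (hθ : Cfsg.IsSolvableSignalizerFunctor p A θ) {q : ℕ} [hq : Fact q.Prime]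
    (hqθ : ∀ a ∈ A, a ≠ 1 → IsPGroup q (θ a)) : Cfsg.IsCompleteSignalizerFunctor p A θ := by
  by_cases hqe : ∃ a ∈ A, a ≠ 1 ∧ q ∣ Nat.card (θ a)
  · have hA1 : A ≠ ⊥ := by
      obtain ⟨a, ha, ha1, -⟩ := hqe
      exact fun h => ha1 (mem_bot.mp (h ▸ ha))
    obtain ⟨a₀, ha₀, ha₀1⟩ := exists_ne_one hA1
    have hT : IsPGroup q (Cfsg.signalizerInf A θ) :=
      (hqθ a₀ ha₀ ha₀1).to_le fun x hx => mem_inf_iff.mp hx a₀ ha₀ ha₀1
    obtain ⟨Q, hQ, hQq, hTQ, hQm⟩ := exists_max (inf_mem_family hθ le_rfl hA1) hT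
    refine ⟨hθ.1, Q, hQ.2.2.1, hQ.2.1, fun a ha ha1 => le_antisymm (hQ.2.2.2 a ha ha1) ?_⟩
    refine le_inf ?_ (hθ.1.1 a ha ha1)
    obtain ⟨R, hR, hRq, hle, hRm⟩ := exists_max (theta_mem_family hθ ha ha1) (hqθ a ha ha1)
    obtain ⟨c, hc, e⟩ := transitivity hA hA3 hθ hqe Q hQ hQq hQm R hR hRq hRm
    rw [conjMap_eq_self (le_normalizer (hTQ hc))] at e
    rwa [e]
  · push Not at hqe
    refine ⟨hθ.1, ⊥, ?_, ?_, fun a ha ha1 => ?_⟩
    · intro b _ x hx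
      rw [mem_bot] at hx ⊢
      simp [hx]
    · rw [card_bot]; exact hp.out.not_dvd_one
    · obtain ⟨n, hn⟩ := IsPGroup.iff_card.mp (hqθ a ha ha1)
      rcases Nat.eq_zero_or_pos n with h | h
      · rw [h, pow_zero] at hn
        rw [eq_bot_of_card_eq _ hn, bot_inf_eq]
      · exact absurd (hn ▸ dvd_pow_self q h.ne') (hqe a ha ha1)

end Cfsg.Lib.Signalizer
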